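import Cfsg.Agent.H404.K6.Sieve
import Cfsg.Prelude.Def_DegreeGraph

/-!
# S4908, OUT rows (helper587)

`not_subset` : `X` has a self-centralising Sylow subgroup of prime order `p` whose normalizer has order `p (p-1)/2`, `A` (for
instance `Aut X`, `|A| = 2 |X|`) has a self-centralising Sylow subgroup of order `p` with normalizer of order `p (p-1)`; then a
degree of `X` is not a degree of `A`.
-/

set_option autoImplicit false

namespace Cfsg.Agent.H587.S8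

open Cfsg Cfsg.Agent.SmallSimple.DegreeData Cfsg.Agent.H404.K6.Sieve

universe u v

/-- degrees of a group with a self-centralising element `w` of prime order `q` -/
theorem degree_mod {A : Type u} [Group A] [Finite A] {q : ℕ} [hq : Fact q.Prime] (hq2 : q ≠ 2) {w : A}
    (hw : orderOf w = q) (hc : Nat.card (Subgroup.centralizer ({w} : Set A)) = q) (hqq : ¬ q ^ 2 ∣ Nat.card A) {e t : ℕ}
    (ht : e * t = q - 1) (he : Nat.card A / q % q = e) {d : ℕ} (hd : d ∈ charDegrees A) :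
    (d : ℤ) ≡ 0 [ZMOD q] ∨ (d : ℤ) ≡ 1 [ZMOD q] ∨ (d : ℤ) ≡ -1 [ZMOD q] ∨ (d : ℤ) ≡ e [ZMOD q] ∨
      (d : ℤ) ≡ -e [ZMOD q] := by
  obtain ⟨M, P, hM, hP, hC, ⟨D⟩⟩ := exists_data hq2 hw hc hqq ht he
  obtain ⟨χ, rfl⟩ := hd
  by_cases hX : χ ∈ D.X
  · have h2 := modEq_X D hP hX
    rcases D.d_mem with h3 | h3 <;> rw [h3] at h2
    · exact Or.inr (Or.inr (Or.inr (Or.inl (by simpa using h2))))
    · exact Or.inr (Or.inr (Or.inr (Or.inr (by simpa using h2))))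
  · obtain ⟨ε, hε, h2, -⟩ := type D hM hP hC hX
    rcases hε with rfl | rfl | rfl
    · exact Or.inl h2
    · exact Or.inr (Or.inl h2)
    · exact Or.inr (Or.inr (Or.inl h2))

/-- existence of an exceptional degree -/
theorem exists_exc {A : Type u} [Group A] [Finite A] {q : ℕ} [hq : Fact q.Prime] (hq2 : q ≠ 2) {w : A}
    (hw : orderOf w = q) (hc : Nat.card (Subgroup.centralizer ({w} : Set A)) = q) (hqq : ¬ q ^ 2 ∣ Nat.card A) {e t : ℕ}
    (ht : e * t = q - 1) (he : Nat.card A / q % q = e) :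
    ∃ d ∈ charDegrees A, (d : ℤ) ≡ e [ZMOD q] ∨ (d : ℤ) ≡ -e [ZMOD q] := by
  obtain ⟨M, P, hM, hP, hC, ⟨D⟩⟩ := exists_data hq2 hw hc hqq ht he
  obtain ⟨Θ, hΘ⟩ := D.exists_X ht
  refine ⟨charDegree (Θ : A → ℂ), ⟨Θ, rfl⟩, ?_⟩
  have h2 := modEq_X D hP hΘ
  rcases D.d_mem with h3 | h3 <;> rw [h3] at h2
  · exact Or.inl (by simpa using h2)
  · exact Or.inr (by simpa using h2)

/-- **A degree of `X` that is not a degree of `A`** -/
theorem not_subset {X : Type u} [Group X] [Finite X] {A : Type v} [Group A] [Finite A] {q : ℕ} [hq : Fact q.Prime]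
    (h5 : 5 ≤ q) {w : X} (hw : orderOf w = q) (hc : Nat.card (Subgroup.centralizer ({w} : Set X)) = q)
    (hqq : ¬ q ^ 2 ∣ Nat.card X) (he : Nat.card X / q % q = (q - 1) / 2)
    {a : A} (ha : orderOf a = q) (hca : Nat.card (Subgroup.centralizer ({a} : Set A)) = q)
    (hA : Nat.card A = 2 * Nat.card X) : ¬ charDegrees X ⊆ charDegrees A := by
  intro hsub
  have hodd : q % 2 = 1 := by
    rcases hq.out.eq_two_or_odd with h | h
    · omega
    · exact h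
  have hq2 : q ≠ 2 := by omega
  have hdvd : q ∣ Nat.card X := hw ▸ orderOf_dvd_natCard w
  obtain ⟨m, hm⟩ := hdvd
  have hq0 : 0 < q := hq.out.pos
  rw [hm, Nat.mul_div_cancel_left _ hq0] at he
  have hqA : ¬ q ^ 2 ∣ Nat.card A := by
    rw [hA]
    intro h
    have h1 : Nat.Coprime (q ^ 2) 2 := by
      refine Nat.Coprime.pow_left 2 ?_
      rw [Nat.coprime_primes hq.out Nat.prime_two]
      exact hq2
    exact hqq (h1.dvd_of_dvd_mul_left h)
  have heA : Nat.card A / q % q = q - 1 := by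
    rw [hA, hm, show 2 * (q * m) = q * (2 * m) by ring, Nat.mul_div_cancel_left _ hq0]
    rw [Nat.mul_mod, he]
    rcases Nat.lt_or_ge 2 q with h | h
    · rw [Nat.mod_eq_of_lt h, show 2 * ((q - 1) / 2) = q - 1 by omega]
      exact Nat.mod_eq_of_lt (by omega)
    · omega
  obtain ⟨d, hd, h1⟩ := exists_exc hq2 hw hc hqq (e := (q - 1) / 2) (t := 2) (by omega)
    (by rw [hm, Nat.mul_div_cancel_left _ hq0]; exact he)
  have h2 := degree_mod hq2 ha hca hqA (e := q - 1) (t := 1) (by omega) heA (hsub hd)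
  obtain ⟨k, hk⟩ : ∃ k : ℕ, q = 2 * k + 1 := ⟨q / 2, by omega⟩
  have hk2 : 2 ≤ k := by omega
  rw [show (q - 1) / 2 = k by omega] at h1
  have e1 : ((q - 1 : ℕ) : ℤ) = q - 1 := by
    rw [Nat.cast_sub (by omega), Nat.cast_one]
  rw [e1] at h2
  -- `2 d ≡ ∓ 1`
  have h3 : ∃ s : ℤ, (s = 1 ∨ s = -1) ∧ (q : ℤ) ∣ 2 * d - s := by
    rcases h1 with h1 | h1
    · refine ⟨-1, Or.inr rfl, ?_⟩
      obtain ⟨c, hc⟩ := (Int.modEq_iff_dvd.1 h1.symm)
      exact ⟨2 * c + 1, by rw [hk] at hc ⊢; push_cast at hc ⊢; linarith⟩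
    · refine ⟨1, Or.inl rfl, ?_⟩
      obtain ⟨c, hc⟩ := (Int.modEq_iff_dvd.1 h1.symm)
      exact ⟨2 * c - 1, by rw [hk] at hc ⊢; push_cast at hc ⊢; linarith⟩
  -- `d ≡ 0, ± 1`
  have h4 : ∃ r : ℤ, (r = 0 ∨ r = 1 ∨ r = -1) ∧ (q : ℤ) ∣ d - r := by
    rcases h2 with h2 | h2 | h2 | h2 | h2
    · exact ⟨0, Or.inl rfl, Int.modEq_iff_dvd.1 h2.symm⟩
    · exact ⟨1, Or.inr (Or.inl rfl), Int.modEq_iff_dvd.1 h2.symm⟩
    · exact ⟨-1, Or.inr (Or.inr rfl), Int.modEq_iff_dvd.1 h2.symm⟩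
    · refine ⟨-1, Or.inr (Or.inr rfl), ?_⟩
      obtain ⟨c, hc⟩ := (Int.modEq_iff_dvd.1 h2.symm)
      exact ⟨c + 1, by linarith⟩
    · refine ⟨1, Or.inr (Or.inl rfl), ?_⟩
      obtain ⟨c, hc⟩ := (Int.modEq_iff_dvd.1 h2.symm)
      exact ⟨c - 1, by linarith⟩
  obtain ⟨s, hs, h3⟩ := h3
  obtain ⟨r, hr, h4⟩ := h4
  have h5' : (q : ℤ) ∣ 2 * r - s := by
    have := dvd_sub h3 (h4.mul_left 2)
    rwa [show 2 * (d : ℤ) - s - 2 * (d - r) = 2 * r - s by ring] at this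
  have h6 : |2 * r - s| < q := by
    have : (5 : ℤ) ≤ q := by exact_mod_cast h5
    rw [abs_lt]
    rcases hr with rfl | rfl | rfl <;> rcases hs with rfl | rfl <;> constructor <;> linarith
  have h7 := Int.eq_zero_of_abs_lt_dvd h5' h6
  rcases hr with rfl | rfl | rfl <;> rcases hs with rfl | rfl <;> omega

end Cfsg.Agent.H587.S8
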